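import Groth.Agent.EtSmColim.Basic
import Mathlib

/-!
# Smooth / unramified base changes descend to a finite stage
-/

set_option autoImplicit false

universe u

open TensorProduct
open scoped Pointwise

namespace Groth.Agent.EtSmColim

section Criterion

variable (B₀ R : Type u) [CommRing B₀] [CommRing R] [Algebra B₀ R] {C₀ P : Type u} [CommRing C₀]
  [Algebra B₀ C₀] [CommRing P] [Algebra B₀ P] (p : P →ₐ[B₀] C₀)

/-- base change of a presentation -/
noncomputable def πbc : R ⊗[B₀] P →ₐ[R] R ⊗[B₀] C₀ :=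
  Algebra.TensorProduct.map (AlgHom.id R R) p

theorem πbc_surjective (hp : Function.Surjective p) : Function.Surjective (πbc B₀ R p) :=
  fun y => by
    induction y using TensorProduct.induction_on with
    | zero => exact ⟨0, map_zero _⟩
    | tmul r c =>
      obtain ⟨q, rfl⟩ := hp c
      exact ⟨r ⊗ₜ q, by simp [πbc]⟩
    | add a b ha hb =>
      obtain ⟨a', rfl⟩ := ha
      obtain ⟨b', rfl⟩ := hb
      exact ⟨a' + b', map_add _ _ _⟩

theorem ker_πbc (hp : Function.Surjective p) :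
    RingHom.ker (πbc B₀ R p).toRingHom =
      (RingHom.ker p.toRingHom).map (Algebra.TensorProduct.includeRight : P →ₐ[B₀] R ⊗[B₀] P) := by
  have e : (πbc B₀ R p).toRingHom = (Algebra.TensorProduct.map (AlgHom.id B₀ R) p).toRingHom := by
    refine RingHom.ext fun x => ?_
    show πbc B₀ R p x = Algebra.TensorProduct.map (AlgHom.id B₀ R) p x
    induction x using TensorProduct.induction_on with
    | zero => simp only [map_zero]
    | tmul r q => simp [πbc]
    | add a b ha hb => simp only [map_add, ha, hb]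
  rw [e]
  exact Algebra.TensorProduct.lTensor_ker p hp

/-- the substitution endomorphism `X l ↦ Q l` -/
noncomputable def subst {n : ℕ} (Q : Fin n → R ⊗[B₀] MvPolynomial (Fin n) B₀) :
    R ⊗[B₀] MvPolynomial (Fin n) B₀ →ₐ[R] R ⊗[B₀] MvPolynomial (Fin n) B₀ :=
  Algebra.TensorProduct.lift (Algebra.ofId R _) (MvPolynomial.aeval Q) fun _ _ => Commute.all _ _

theorem subst_tmul {n : ℕ} (Q : Fin n → R ⊗[B₀] MvPolynomial (Fin n) B₀) (r : MvPolynomial (Fin n) B₀) :
    subst B₀ R Q (1 ⊗ₜ r) = MvPolynomial.aeval Q r := by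
  simp [subst, ← Algebra.TensorProduct.one_def]

/-- smoothness of a base change in terms of substitutions -/
theorem formallySmooth_iff {n : ℕ} (p : MvPolynomial (Fin n) B₀ →ₐ[B₀] C₀) (hp : Function.Surjective p)
    (s : Finset (MvPolynomial (Fin n) B₀)) (hs : RingHom.ker p.toRingHom = Ideal.span (s : Set _)) :
    Algebra.FormallySmooth R (R ⊗[B₀] C₀) ↔
      ∃ Q : Fin n → R ⊗[B₀] MvPolynomial (Fin n) B₀,
        (∀ l, Q l - 1 ⊗ₜ MvPolynomial.X l ∈ (Ideal.span (s : Set (MvPolynomial (Fin n) B₀))).map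
          (Algebra.TensorProduct.includeRight : _ →ₐ[B₀] R ⊗[B₀] MvPolynomial (Fin n) B₀)) ∧
        ∀ r ∈ s, MvPolynomial.aeval Q r ∈ ((Ideal.span (s : Set (MvPolynomial (Fin n) B₀))).map
          (Algebra.TensorProduct.includeRight : _ →ₐ[B₀] R ⊗[B₀] MvPolynomial (Fin n) B₀)) ^ 2 := by
  classical
  set π := πbc B₀ R p with hπdef
  have hπ := πbc_surjective B₀ R p hp
  set I := RingHom.ker π.toRingHom with hI
  have hI' : I = (Ideal.span (s : Set (MvPolynomial (Fin n) B₀))).map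
      (Algebra.TensorProduct.includeRight : _ →ₐ[B₀] R ⊗[B₀] MvPolynomial (Fin n) B₀) := by
    rw [hI, ker_πbc B₀ R p hp, hs]
  rw [← hI']
  constructor
  · intro h
    obtain ⟨σ, hσ⟩ := (Algebra.FormallySmooth.iff_split_surjection π hπ).1 h
    choose Q hQ using fun l => Ideal.Quotient.mk_surjective (σ (π (1 ⊗ₜ MvPolynomial.X l)))
    refine ⟨Q, fun l => ?_, fun r hr => ?_⟩
    · have h1 : π (Q l) = π (1 ⊗ₜ MvPolynomial.X l) := by
        have := AlgHom.congr_fun hσ (π (1 ⊗ₜ MvPolynomial.X l))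
        rw [AlgHom.comp_apply, ← hQ l] at this
        exact this
      rw [hI, RingHom.mem_ker]
      show π (Q l - _) = 0
      rw [map_sub, h1, sub_self]
    · have heq : (Ideal.Quotient.mkₐ R (I ^ 2)).comp (subst B₀ R Q) = σ.comp π := by
        refine Algebra.TensorProduct.ext (Algebra.ext_id _ _ _) (MvPolynomial.algHom_ext fun l => ?_)
        show Ideal.Quotient.mk (I ^ 2) (subst B₀ R Q (1 ⊗ₜ MvPolynomial.X l)) = σ (π (1 ⊗ₜ MvPolynomial.X l))
        rw [subst_tmul, MvPolynomial.aeval_X, hQ]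
      rw [← Ideal.Quotient.eq_zero_iff_mem, ← subst_tmul B₀ R Q r]
      refine (AlgHom.congr_fun heq (1 ⊗ₜ r)).trans ?_
      show σ (π (1 ⊗ₜ r)) = 0
      have hr0 : p r = 0 := (show r ∈ RingHom.ker p.toRingHom by rw [hs]; exact Ideal.subset_span hr)
      rw [show π (1 ⊗ₜ r) = (1 : R) ⊗ₜ[B₀] p r from rfl, hr0, TensorProduct.tmul_zero, map_zero]
  · rintro ⟨Q, hQ1, hQ2⟩
    let h := (Ideal.Quotient.mkₐ R (I ^ 2)).comp (subst B₀ R Q)
    have hI0 : ∀ x ∈ I, h x = 0 := by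
      intro x hx
      have hle : I ≤ RingHom.ker h.toRingHom := by
        refine hI'.le.trans ?_
        rw [Ideal.map_span, Ideal.span_le]
        rintro _ ⟨r, hr, rfl⟩
        show Ideal.Quotient.mk (I ^ 2) (subst B₀ R Q (1 ⊗ₜ r)) = 0
        rw [subst_tmul]
        exact Ideal.Quotient.eq_zero_iff_mem.2 (hQ2 r hr)
      exact hle hx
    let σ : R ⊗[B₀] C₀ →ₐ[R] (R ⊗[B₀] MvPolynomial (Fin n) B₀) ⧸ I ^ 2 :=
      (Ideal.Quotient.liftₐ I h hI0).comp (Ideal.quotientKerAlgEquivOfSurjective hπ).symm.toAlgHom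
    have hσ : ∀ x, σ (π x) = h x := fun x => by
      show Ideal.Quotient.liftₐ I h hI0 ((Ideal.quotientKerAlgEquivOfSurjective hπ).symm (π x)) = h x
      rw [show (Ideal.quotientKerAlgEquivOfSurjective hπ).symm (π x) = Ideal.Quotient.mk _ x from by
        rw [AlgEquiv.symm_apply_eq]; rfl]
      rfl
    refine Algebra.FormallySmooth.of_split π σ ?_
    have hcomp : π.comp (subst B₀ R Q) = π := by
      refine Algebra.TensorProduct.ext (Algebra.ext_id _ _ _) (MvPolynomial.algHom_ext fun l => ?_)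
      show π (subst B₀ R Q (1 ⊗ₜ MvPolynomial.X l)) = π (1 ⊗ₜ MvPolynomial.X l)
      rw [subst_tmul, MvPolynomial.aeval_X, ← sub_eq_zero, ← map_sub]
      exact hQ1 l
    refine AlgHom.ext fun e => ?_
    obtain ⟨x, rfl⟩ := hπ e
    rw [AlgHom.comp_apply, hσ]
    exact AlgHom.congr_fun hcomp x

theorem subsingleton_tensor_kaehler_iff (s : Finset (Ω[C₀⁄B₀]))
    (hs : Submodule.span C₀ (s : Set (Ω[C₀⁄B₀])) = ⊤) :
    Algebra.FormallyUnramified R (R ⊗[B₀] C₀) ↔ ∀ w ∈ s, (1 : R) ⊗ₜ[B₀] w = 0 := by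
  letI : Algebra C₀ (R ⊗[B₀] C₀) := Algebra.TensorProduct.rightAlgebra
  have e := KaehlerDifferential.tensorKaehlerEquivBase B₀ R C₀ (R ⊗[B₀] C₀)
  rw [Algebra.formallyUnramified_iff, ← e.toEquiv.subsingleton_congr]
  refine ⟨fun _ w _ => Subsingleton.elim _ _, fun h => subsingleton_of_forall_eq 0 fun x => ?_⟩
  have hall : ∀ w : Ω[C₀⁄B₀], (1 : R) ⊗ₜ[B₀] w = 0 := by
    intro w
    have hw : w ∈ Submodule.span C₀ (s : Set (Ω[C₀⁄B₀])) := hs ▸ Submodule.mem_top
    induction hw using Submodule.span_induction with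
    | mem w hw => exact h w hw
    | zero => exact TensorProduct.tmul_zero _ _
    | add a b _ _ ha hb => rw [TensorProduct.tmul_add, ha, hb, add_zero]
    | smul c w _ hw =>
      let m : Ω[C₀⁄B₀] →ₗ[B₀] Ω[C₀⁄B₀] := (DistribSMul.toLinearMap B₀ _ c)
      exact ((LinearMap.lTensor_tmul R m 1 w).symm.trans (congrArg (m.lTensor R) hw)).trans (map_zero _)
  induction x using TensorProduct.induction_on with
  | zero => rfl
  | tmul r w =>
    rw [show r ⊗ₜ[B₀] w = r • ((1 : R) ⊗ₜ[B₀] w) by rw [TensorProduct.smul_tmul', smul_eq_mul, mul_one],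
      hall, smul_zero]
  | add a b ha hb => rw [ha, hb, add_zero]

end Criterion

section Descent

variable {A₀ : Type u} [CommRing A₀] {ι : Type u} [Nonempty ι] {G : ι → Type u} [∀ i, CommRing (G i)]
  [∀ i, Algebra A₀ (G i)] {A : Type u} [CommRing A] [Algebra A₀ A] {g : ∀ i, G i →ₐ[A₀] A}
  (hd : Directed g) (hsurj : ∀ a : A, ∃ i, ∃ x : G i, g i x = a)
  (hker : ∀ i (x : G i), g i x = 0 → ∃ j, ∃ a : Step g i j, a.hom x = 0)
  (B₀ : Type u) [CommRing B₀] [Algebra A₀ B₀] (C₀ : Type u) [CommRing C₀] [Algebra B₀ C₀]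
  [Algebra.FinitePresentation B₀ C₀]

variable (P : Type u) [CommRing P] [Algebra B₀ P]

theorem tmap_mem {i j : ι} (a : Step g i j) (J : Ideal P) {x : (B₀ ⊗[A₀] G i) ⊗[B₀] P}
    (hx : x ∈ J.map (Algebra.TensorProduct.includeRight : P →ₐ[B₀] (B₀ ⊗[A₀] G i) ⊗[B₀] P)) :
    tmap B₀ P a x ∈ J.map (Algebra.TensorProduct.includeRight : P →ₐ[B₀] (B₀ ⊗[A₀] G j) ⊗[B₀] P) := by
  have hle : J.map (Algebra.TensorProduct.includeRight : P →ₐ[B₀] (B₀ ⊗[A₀] G i) ⊗[B₀] P) ≤
      (J.map (Algebra.TensorProduct.includeRight : P →ₐ[B₀] (B₀ ⊗[A₀] G j) ⊗[B₀] P)).comap (tmap B₀ P a) := by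
    rw [Ideal.map_le_iff_le_comap]
    intro q hq
    rw [Ideal.mem_comap, Ideal.mem_comap]
    have e : tmap B₀ P a (Algebra.TensorProduct.includeRight q) = Algebra.TensorProduct.includeRight q := by
      simp [tmap, Algebra.TensorProduct.includeRight_apply]
    rw [e]
    exact Ideal.mem_map_of_mem _ hq
  exact hle hx

include hd hsurj hker in
theorem mem_span_stage_finset {κ : Type} (t : Finset κ) (J : κ → Finset P) {i : ι}
    (x : κ → (B₀ ⊗[A₀] G i) ⊗[B₀] P)
    (hx : ∀ k ∈ t, tinf (g := g) B₀ P i (x k) ∈ (Ideal.span (J k : Set P)).map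
      (Algebra.TensorProduct.includeRight : P →ₐ[B₀] (B₀ ⊗[A₀] A) ⊗[B₀] P)) :
    ∃ j, ∃ a : Step g i j, ∀ k ∈ t, tmap B₀ P a (x k) ∈ (Ideal.span (J k : Set P)).map
      (Algebra.TensorProduct.includeRight : P →ₐ[B₀] (B₀ ⊗[A₀] G j) ⊗[B₀] P) := by
  classical
  induction t using Finset.induction_on with
  | empty => exact ⟨i, Step.refl i, fun k hk => absurd hk (Finset.notMem_empty k)⟩
  | insert c t _ ih =>
    obtain ⟨j, a, ha⟩ := ih fun k hk => hx k (Finset.mem_insert_of_mem hk)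
    obtain ⟨l, b, hb⟩ := mem_span_stage hd hsurj hker B₀ P (J c) (tmap B₀ P a (x c))
      (by rw [tinf_tmap]; exact hx c (Finset.mem_insert_self c t))
    refine ⟨l, a.comp b, fun k hk => ?_⟩
    rw [tmap_comp]
    rcases Finset.mem_insert.1 hk with rfl | hk
    · exact hb
    · exact tmap_mem B₀ P b _ (ha k hk)

include hd hsurj hker in
/-- formal smoothness descends to a stage above any given one, and is then inherited upwards -/
theorem exists_formallySmooth (h : Algebra.FormallySmooth (B₀ ⊗[A₀] A) ((B₀ ⊗[A₀] A) ⊗[B₀] C₀)) :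
    ∃ j, ∀ k, Step g j k → Algebra.FormallySmooth (B₀ ⊗[A₀] G k) ((B₀ ⊗[A₀] G k) ⊗[B₀] C₀) := by
  classical
  obtain ⟨n, p, hp, s, hs⟩ := ‹Algebra.FinitePresentation B₀ C₀›.out
  have hs' : RingHom.ker p.toRingHom = Ideal.span (s : Set _) := hs.symm
  obtain ⟨Q, hQ1, hQ2⟩ := (formallySmooth_iff B₀ _ p hp s hs').1 h
  obtain ⟨i₀⟩ := ‹Nonempty ι›
  obtain ⟨i, -, Q', hQ'⟩ := lift_fin hd hsurj hker B₀ _ i₀ Q
  let P' := MvPolynomial (Fin n) B₀
  have hsq : (Ideal.span (s : Set P')) ^ 2 = Ideal.span ((s * s : Finset P') : Set P') := by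
    rw [pow_two, Ideal.span_mul_span', Finset.coe_mul]
  let eqv := s.equivFin.symm
  let x : Fin n ⊕ Fin s.card → (B₀ ⊗[A₀] G i) ⊗[B₀] P' :=
    Sum.elim (fun l => Q' l - 1 ⊗ₜ MvPolynomial.X l) (fun r => MvPolynomial.aeval Q' (eqv r : P'))
  let J : Fin n ⊕ Fin s.card → Finset P' := Sum.elim (fun _ => s) (fun _ => s * s)
  have haev : ∀ r : P', tinf (g := g) B₀ P' i (MvPolynomial.aeval Q' r) = MvPolynomial.aeval Q r := by
    intro r
    rw [show Q = fun l => tinf (g := g) B₀ P' i (Q' l) from funext fun l => (hQ' l).symm]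
    exact AlgHom.congr_fun (MvPolynomial.comp_aeval Q' (tinf (g := g) B₀ P' i)) r
  obtain ⟨j, a, ha⟩ := mem_span_stage_finset hd hsurj hker B₀ P' Finset.univ J x (by
    rintro (l | r) -
    · simp only [x, J, Sum.elim_inl]
      have e : tinf (g := g) B₀ P' i (1 ⊗ₜ MvPolynomial.X l) = 1 ⊗ₜ MvPolynomial.X l := by simp [tinf]
      rw [map_sub, e, hQ']
      exact hQ1 l
    · simp only [x, J, Sum.elim_inr, haev]
      rw [← hsq, Ideal.map_pow]
      exact hQ2 _ (eqv r).2)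
  refine ⟨j, fun k b => ?_⟩
  rw [formallySmooth_iff B₀ _ p hp s hs']
  refine ⟨fun l => tmap B₀ P' (a.comp b) (Q' l), fun l => ?_, fun r hr => ?_⟩
  · have h1 := tmap_mem B₀ P' b _ (ha (.inl l) (Finset.mem_univ _))
    simp only [x, J, Sum.elim_inl] at h1
    rw [← tmap_comp, map_sub] at h1
    have e : tmap B₀ P' (a.comp b) (1 ⊗ₜ MvPolynomial.X l) = 1 ⊗ₜ MvPolynomial.X l := by simp [tmap]
    rwa [e] at h1
  · have h2 := tmap_mem B₀ P' b _ (ha (.inr (eqv.symm ⟨r, hr⟩)) (Finset.mem_univ _))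
    simp only [x, J, Sum.elim_inr, Equiv.apply_symm_apply] at h2
    rw [← tmap_comp, ← hsq, Ideal.map_pow] at h2
    have e : tmap B₀ P' (a.comp b) (MvPolynomial.aeval Q' r) =
        MvPolynomial.aeval (fun l => tmap B₀ P' (a.comp b) (Q' l)) r :=
      AlgHom.congr_fun (MvPolynomial.comp_aeval Q' (tmap B₀ P' (a.comp b))) r
    rwa [e] at h2

include hd hsurj hker in
/-- formal unramifiedness descends to a stage above any given one, and is then inherited upwards -/
theorem exists_formallyUnramified (i : ι)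
    (h : Algebra.FormallyUnramified (B₀ ⊗[A₀] A) ((B₀ ⊗[A₀] A) ⊗[B₀] C₀)) :
    ∃ j, Nonempty (Step g i j) ∧
      Algebra.FormallyUnramified (B₀ ⊗[A₀] G j) ((B₀ ⊗[A₀] G j) ⊗[B₀] C₀) := by
  classical
  obtain ⟨s, hs⟩ := (inferInstance : Module.Finite C₀ (Ω[C₀⁄B₀])).fg_top
  rw [subsingleton_tensor_kaehler_iff B₀ _ s hs] at h
  let S := (ringSys hd hsurj hker B₀).tensor hd (Ω[C₀⁄B₀])
  obtain ⟨j, a, ha⟩ := S.kill_finset s (i := i) (fun w => w ⊗ₜ[B₀] (1 : B₀ ⊗[A₀] G i)) (fun w hw => by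
    show w ⊗ₜ[B₀] (rinf (g := g) B₀ i 1) = 0
    rw [map_one]
    have := congrArg (TensorProduct.comm B₀ _ _) (h w hw)
    rwa [TensorProduct.comm_tmul, map_zero] at this)
  refine ⟨j, ⟨a⟩, (subsingleton_tensor_kaehler_iff B₀ _ s hs).2 fun w hw => ?_⟩
  have h1 : w ⊗ₜ[B₀] (rmap B₀ a 1) = 0 := ha w hw
  rw [map_one] at h1
  have := congrArg (TensorProduct.comm B₀ _ _) h1
  rwa [TensorProduct.comm_tmul, map_zero] at this

end Descent

end Groth.Agent.EtSmColim
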