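import Mathlib

/-!
# Descent of smoothness and unramifiedness to a stage of a filtered colimit of base rings

`A` is the colimit of the `G i` (cocone `g`, jointly surjective, kernels die along some map of the
system).  For a finitely presented `B₀ → C₀` we show that smoothness/unramifiedness of the base change
to `B₀ ⊗ A` descends to some `B₀ ⊗ G i`.
-/

set_option autoImplicit false

universe u

open TensorProduct

namespace Groth.Agent.EtSmColim

variable {A₀ : Type u} [CommRing A₀] {ι : Type u} {G : ι → Type u} [∀ i, CommRing (G i)]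
  [∀ i, Algebra A₀ (G i)] {A : Type u} [CommRing A] [Algebra A₀ A]

/-- maps of stages over the colimit -/
structure Step (g : ∀ i, G i →ₐ[A₀] A) (i j : ι) where
  hom : G i →ₐ[A₀] G j
  comm : (g j).comp hom = g i

variable {g : ∀ i, G i →ₐ[A₀] A}

/-- identity step -/
def Step.refl (i : ι) : Step g i i := ⟨AlgHom.id _ _, AlgHom.comp_id _⟩

/-- composition of steps -/
def Step.comp {i j k : ι} (a : Step g i j) (b : Step g j k) : Step g i k :=
  ⟨b.hom.comp a.hom, by rw [← AlgHom.comp_assoc, b.comm, a.comm]⟩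

/-- a system of modules indexed by the stages, with colimit `M∞` in the elementwise sense -/
structure Sys (R : Type u) [CommRing R] (g : ∀ i, G i →ₐ[A₀] A) (M : ι → Type u)
    [∀ i, AddCommGroup (M i)] [∀ i, Module R (M i)] (Minf : Type u) [AddCommGroup Minf] [Module R Minf] where
  act : ∀ {i j}, Step g i j → (M i →ₗ[R] M j)
  ψ : ∀ i, M i →ₗ[R] Minf
  act_comp : ∀ {i j k} (a : Step g i j) (b : Step g j k) (x : M i), act (a.comp b) x = act b (act a x)
  ψ_act : ∀ {i j} (a : Step g i j) (x : M i), ψ j (act a x) = ψ i x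
  surj : ∀ x : Minf, ∃ i, ∃ y : M i, ψ i y = x
  kill : ∀ i (x : M i), ψ i x = 0 → ∃ j, ∃ a : Step g i j, act a x = 0

/-- directedness of the steps -/
def Directed (g : ∀ i, G i →ₐ[A₀] A) : Prop :=
  ∀ i j, ∃ k, Nonempty (Step g i k) ∧ Nonempty (Step g j k)

variable {R : Type u} [CommRing R] {M : ι → Type u} [∀ i, AddCommGroup (M i)] [∀ i, Module R (M i)]
  {Minf : Type u} [AddCommGroup Minf] [Module R Minf]

theorem Sys.kill_finset (S : Sys R g M Minf) {κ : Type*} (s : Finset κ) {i : ι} (x : κ → M i)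
    (hx : ∀ k ∈ s, S.ψ i (x k) = 0) : ∃ j, ∃ a : Step g i j, ∀ k ∈ s, S.act a (x k) = 0 := by
  classical
  induction s using Finset.induction_on with
  | empty => exact ⟨i, Step.refl i, fun k hk => absurd hk (Finset.notMem_empty k)⟩
  | insert c t _ ih =>
    obtain ⟨j, a, ha⟩ := ih fun k hk => hx k (Finset.mem_insert_of_mem hk)
    obtain ⟨l, b, hb⟩ := S.kill j (S.act a (x c)) (by rw [S.ψ_act]; exact hx c (Finset.mem_insert_self c t))
    refine ⟨l, a.comp b, fun k hk => ?_⟩
    rw [S.act_comp]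
    rcases Finset.mem_insert.1 hk with rfl | hk
    · exact hb
    · rw [ha k hk, map_zero]

theorem Sys.lift_finset (S : Sys R g M Minf) (hd : Directed g) {κ : Type*} (s : Finset κ) (i₀ : ι)
    (x : κ → Minf) : ∃ j, Nonempty (Step g i₀ j) ∧ ∃ y : κ → M j, ∀ k ∈ s, S.ψ j (y k) = x k := by
  classical
  induction s using Finset.induction_on with
  | empty => exact ⟨i₀, ⟨Step.refl i₀⟩, fun _ => 0, fun k hk => absurd hk (Finset.notMem_empty k)⟩
  | insert c t hct ih =>
    obtain ⟨j, ⟨a⟩, y, hy⟩ := ih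
    obtain ⟨i, z, hz⟩ := S.surj (x c)
    obtain ⟨l, ⟨b⟩, ⟨b'⟩⟩ := hd j i
    refine ⟨l, ⟨a.comp b⟩, fun k => if k = c then S.act b' z else S.act b (y k), fun k hk => ?_⟩
    by_cases hkc : k = c
    · simp only [hkc, if_true]; rw [S.ψ_act, hz]
    · simp only [hkc, if_false]
      rw [S.ψ_act]
      exact hy k ((Finset.mem_insert.1 hk).resolve_left hkc)

theorem Sys.kill_free (S : Sys R g M Minf) (F : Type u) [AddCommGroup F] [Module R F] [Module.Free R F]
    {i : ι} (d : F ⊗[R] M i) (hd0 : (S.ψ i).lTensor F d = 0) :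
    ∃ j, ∃ a : Step g i j, (S.act a).lTensor F d = 0 := by
  classical
  let b := Module.Free.chooseBasis R F
  let κ := Module.Free.ChooseBasisIndex R F
  let c : ∀ (X : Type u) [AddCommGroup X] [Module R X], F ⊗[R] X ≃ₗ[R] (κ →₀ X) := fun X _ _ =>
    (TensorProduct.congr b.repr (LinearEquiv.refl R X)).trans (TensorProduct.finsuppScalarLeft R X κ)
  have hnat : ∀ {X Y : Type u} [AddCommGroup X] [Module R X] [AddCommGroup Y] [Module R Y]
      (h : X →ₗ[R] Y) (x : F ⊗[R] X) (k : κ), h (c X x k) = c Y (h.lTensor F x) k := by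
    intro X Y _ _ _ _ h x k
    induction x using TensorProduct.induction_on with
    | zero => simp
    | tmul q m => simp [c]
    | add x y hx hy => simp only [map_add, Finsupp.add_apply, hx, hy]
  obtain ⟨j, a, ha⟩ := S.kill_finset (c (M i) d).support (fun k => c (M i) d k)
    fun k _ => by rw [hnat, hd0]; simp
  refine ⟨j, a, (c (M j)).injective ?_⟩
  rw [map_zero]
  ext k
  rw [← hnat, Finsupp.zero_apply]
  by_cases hk : k ∈ (c (M i) d).support
  · exact ha k hk
  · rw [Finsupp.notMem_support_iff.1 hk, map_zero]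

theorem Sys.kill_cover (S : Sys R g M Minf) (hd : Directed g) (N F : Type u) [AddCommGroup N] [Module R N]
    [AddCommGroup F] [Module R F] [Module.Free R F] (p : F →ₗ[R] N) (hp : Function.Surjective p)
    (i : ι) (z : N ⊗[R] M i) (hz : (S.ψ i).lTensor N z = 0) :
    ∃ j, ∃ a : Step g i j, (S.act a).lTensor N z = 0 := by
  classical
  let K := LinearMap.ker p
  obtain ⟨z', rfl⟩ := LinearMap.rTensor_surjective (M i) hp z
  have h0 : p.rTensor Minf ((S.ψ i).lTensor F z') = 0 := by
    rw [← LinearMap.comp_apply, LinearMap.rTensor_comp_lTensor, ← LinearMap.lTensor_comp_rTensor,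
      LinearMap.comp_apply]
    exact hz
  obtain ⟨w, hw⟩ := (rTensor_exact Minf (LinearMap.exact_subtype_ker_map p) hp _).1 h0
  have hw' : ∀ w : K ⊗[R] Minf, ∃ j, Nonempty (Step g i j) ∧ ∃ y : K ⊗[R] M j, (S.ψ j).lTensor K y = w := by
    intro w
    induction w using TensorProduct.induction_on with
    | zero => exact ⟨i, ⟨Step.refl i⟩, 0, map_zero _⟩
    | tmul n m =>
      obtain ⟨l, y, rfl⟩ := S.surj m
      obtain ⟨k, ⟨a⟩, ⟨b⟩⟩ := hd i l
      exact ⟨k, ⟨a⟩, n ⊗ₜ S.act b y, by simp [S.ψ_act]⟩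
    | add x y hx hy =>
      obtain ⟨j, ⟨a⟩, x', hx'⟩ := hx
      obtain ⟨l, -, y', hy'⟩ := hy
      obtain ⟨k, ⟨b⟩, ⟨c⟩⟩ := hd j l
      refine ⟨k, ⟨a.comp b⟩, (S.act b).lTensor K x' + (S.act c).lTensor K y', ?_⟩
      rw [map_add, ← LinearMap.lTensor_comp_apply, ← LinearMap.lTensor_comp_apply,
        show (S.ψ _).comp (S.act b) = S.ψ _ from LinearMap.ext (S.ψ_act b),
        show (S.ψ _).comp (S.act c) = S.ψ _ from LinearMap.ext (S.ψ_act c), hx', hy']
  obtain ⟨j, ⟨a⟩, w', hw'⟩ := hw' w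
  let d : F ⊗[R] M j := (S.act a).lTensor _ z' - K.subtype.rTensor (M j) w'
  have hd0 : (S.ψ j).lTensor F d = 0 := by
    rw [map_sub, ← LinearMap.lTensor_comp_apply,
      show (S.ψ _).comp (S.act a) = S.ψ _ from LinearMap.ext (S.ψ_act a), sub_eq_zero, ← hw, ← hw',
      ← LinearMap.comp_apply (LinearMap.lTensor _ _), LinearMap.lTensor_comp_rTensor,
      ← LinearMap.rTensor_comp_lTensor, LinearMap.comp_apply]
  obtain ⟨k, b, hbd⟩ := S.kill_free F d hd0
  refine ⟨k, a.comp b, ?_⟩
  rw [show S.act (a.comp b) = (S.act b).comp (S.act a) from LinearMap.ext (S.act_comp a b),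
    LinearMap.lTensor_comp_apply, ← LinearMap.comp_apply (LinearMap.lTensor N (S.act a)),
    LinearMap.lTensor_comp_rTensor, ← LinearMap.rTensor_comp_lTensor, LinearMap.comp_apply,
    ← LinearMap.comp_apply (LinearMap.lTensor N (S.act b)), LinearMap.lTensor_comp_rTensor,
    ← LinearMap.rTensor_comp_lTensor, LinearMap.comp_apply,
    show (S.act a).lTensor _ z' = d + K.subtype.rTensor (M j) w' by simp [d],
    map_add, hbd, zero_add, ← LinearMap.comp_apply (LinearMap.lTensor F (S.act b)),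
    LinearMap.lTensor_comp_rTensor, ← LinearMap.rTensor_comp_lTensor, LinearMap.comp_apply,
    ← LinearMap.rTensor_comp_apply]
  rw [show p.comp K.subtype = 0 from LinearMap.ext fun x => x.2, LinearMap.rTensor_zero, LinearMap.zero_apply]

/-- the system `N ⊗ M i` -/
noncomputable def Sys.tensor (S : Sys R g M Minf) (hd : Directed g) (N : Type u) [AddCommGroup N] [Module R N] :
    Sys R g (fun i => N ⊗[R] M i) (N ⊗[R] Minf) where
  act a := (S.act a).lTensor N
  ψ i := (S.ψ i).lTensor N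
  act_comp a b x := by
    rw [show S.act (a.comp b) = (S.act b).comp (S.act a) from LinearMap.ext (S.act_comp a b),
      LinearMap.lTensor_comp_apply]
  ψ_act a x := by
    rw [← LinearMap.lTensor_comp_apply, show (S.ψ _).comp (S.act a) = S.ψ _ from LinearMap.ext (S.ψ_act a)]
  surj x := by
    induction x using TensorProduct.induction_on with
    | zero =>
      obtain ⟨i, y, -⟩ := S.surj 0
      exact ⟨i, 0, map_zero _⟩
    | tmul n m =>
      obtain ⟨i, y, rfl⟩ := S.surj m
      exact ⟨i, n ⊗ₜ y, rfl⟩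
    | add x y hx hy =>
      obtain ⟨i, x', rfl⟩ := hx
      obtain ⟨j, y', rfl⟩ := hy
      obtain ⟨k, ⟨a⟩, ⟨b⟩⟩ := hd i j
      refine ⟨k, (S.act a).lTensor N x' + (S.act b).lTensor N y', ?_⟩
      rw [map_add, ← LinearMap.lTensor_comp_apply, ← LinearMap.lTensor_comp_apply,
        show (S.ψ _).comp (S.act a) = S.ψ _ from LinearMap.ext (S.ψ_act a),
        show (S.ψ _).comp (S.act b) = S.ψ _ from LinearMap.ext (S.ψ_act b)]
  kill i z hz := S.kill_cover hd N (N →₀ R) (Finsupp.linearCombination R id)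
    (fun n => ⟨Finsupp.single n 1, by simp⟩) i z hz

section Data

variable (hd : Directed g) (hsurj : ∀ a : A, ∃ i, ∃ x : G i, g i x = a)
  (hker : ∀ i (x : G i), g i x = 0 → ∃ j, ∃ a : Step g i j, a.hom x = 0)
  (B₀ : Type u) [CommRing B₀] [Algebra A₀ B₀]

/-- the base system -/
def baseSys : Sys A₀ g G A where
  act a := a.hom.toLinearMap
  ψ i := (g i).toLinearMap
  act_comp _ _ _ := rfl
  ψ_act a x := AlgHom.congr_fun a.comm x
  surj := hsurj
  kill := hker

/-- base change of a step to `B₀` -/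
noncomputable def rmap {i j : ι} (a : Step g i j) : (B₀ ⊗[A₀] G i) →ₐ[B₀] (B₀ ⊗[A₀] G j) :=
  Algebra.TensorProduct.map (AlgHom.id B₀ B₀) a.hom

/-- base change of the cocone to `B₀` -/
noncomputable def rinf (i : ι) : (B₀ ⊗[A₀] G i) →ₐ[B₀] (B₀ ⊗[A₀] A) :=
  Algebra.TensorProduct.map (AlgHom.id B₀ B₀) (g i)

/-- the `B₀`-system `B₀ ⊗ G i` -/
noncomputable def ringSys : Sys B₀ g (fun i => B₀ ⊗[A₀] G i) (B₀ ⊗[A₀] A) where
  act a := (rmap B₀ a).toLinearMap
  ψ i := (rinf B₀ i).toLinearMap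
  act_comp a b x := ((baseSys hsurj hker).tensor hd B₀).act_comp a b x
  ψ_act a x := ((baseSys hsurj hker).tensor hd B₀).ψ_act a x
  surj := ((baseSys hsurj hker).tensor hd B₀).surj
  kill := ((baseSys hsurj hker).tensor hd B₀).kill

variable (P : Type u) [CommRing P] [Algebra B₀ P]

/-- base change of a step to an algebra `P` over `B₀` -/
noncomputable def tmap {i j : ι} (a : Step g i j) :
    ((B₀ ⊗[A₀] G i) ⊗[B₀] P) →ₐ[B₀] ((B₀ ⊗[A₀] G j) ⊗[B₀] P) :=
  Algebra.TensorProduct.map (rmap B₀ a) (AlgHom.id B₀ P)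

/-- base change of the cocone to an algebra `P` over `B₀` -/
noncomputable def tinf (i : ι) :
    ((B₀ ⊗[A₀] G i) ⊗[B₀] P) →ₐ[B₀] ((B₀ ⊗[A₀] A) ⊗[B₀] P) :=
  Algebra.TensorProduct.map (rinf (g := g) B₀ i) (AlgHom.id B₀ P)

theorem tmap_comp {i j k : ι} (a : Step g i j) (b : Step g j k) (x : (B₀ ⊗[A₀] G i) ⊗[B₀] P) :
    tmap B₀ P (a.comp b) x = tmap B₀ P b (tmap B₀ P a x) := by
  induction x using TensorProduct.induction_on with
  | zero => simp only [map_zero]
  | tmul r p =>
    induction r using TensorProduct.induction_on with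
    | zero => simp only [TensorProduct.zero_tmul, map_zero]
    | tmul b' y => simp [tmap, rmap, Step.comp]
    | add x y hx hy => simp only [TensorProduct.add_tmul, map_add, hx, hy]
  | add x y hx hy => simp only [map_add, hx, hy]

theorem tinf_tmap {i j : ι} (a : Step g i j) (x : (B₀ ⊗[A₀] G i) ⊗[B₀] P) :
    tinf (g := g) B₀ P j (tmap B₀ P a x) = tinf (g := g) B₀ P i x := by
  induction x using TensorProduct.induction_on with
  | zero => simp only [map_zero]
  | tmul r p =>
    induction r using TensorProduct.induction_on with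
    | zero => simp only [TensorProduct.zero_tmul, map_zero]
    | tmul b' y => simp [tinf, tmap, rinf, rmap, ← AlgHom.congr_fun a.comm y]
    | add x y hx hy => simp only [TensorProduct.add_tmul, map_add, hx, hy]
  | add x y hx hy => simp only [map_add, hx, hy]

include hd hsurj hker in
theorem tinf_surj (x : (B₀ ⊗[A₀] A) ⊗[B₀] P) : ∃ i, ∃ y, tinf (g := g) B₀ P i y = x := by
  obtain ⟨i, y, hy⟩ := ((ringSys hd hsurj hker B₀).tensor hd P).surj (TensorProduct.comm _ _ _ x)
  refine ⟨i, TensorProduct.comm _ _ _ y, (TensorProduct.comm B₀ (B₀ ⊗[A₀] A) P).injective ?_⟩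
  rw [← hy]
  clear hy
  induction y using TensorProduct.induction_on with
  | zero => simp only [map_zero]
  | tmul p r => rfl
  | add x y hx hy => simp only [map_add, hx, hy]

include hd hsurj hker in
theorem tinf_kill {i : ι} (x : (B₀ ⊗[A₀] G i) ⊗[B₀] P) (hx : tinf (g := g) B₀ P i x = 0) :
    ∃ j, ∃ a : Step g i j, tmap B₀ P a x = 0 := by
  have h : ∀ (j) (a : Step g i j),
      ((ringSys hd hsurj hker B₀).tensor hd P).act a (TensorProduct.comm _ _ _ x) =
        TensorProduct.comm _ _ _ (tmap B₀ P a x) := by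
    intro j a
    clear hx
    induction x using TensorProduct.induction_on with
    | zero => simp only [map_zero]
    | tmul r p => rfl
    | add x y hx hy => simp only [map_add, hx, hy]
  have h' : ((ringSys hd hsurj hker B₀).tensor hd P).ψ i (TensorProduct.comm _ _ _ x) =
        TensorProduct.comm _ _ _ (tinf (g := g) B₀ P i x) := by
    clear hx h
    induction x using TensorProduct.induction_on with
    | zero => simp only [map_zero]
    | tmul r p => rfl
    | add x y hx hy => simp only [map_add, hx, hy]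
  obtain ⟨j, a, ha⟩ := ((ringSys hd hsurj hker B₀).tensor hd P).kill i _ (by rw [h', hx, map_zero])
  rw [h] at ha
  exact ⟨j, a, (TensorProduct.comm _ _ _).injective (ha.trans (map_zero _).symm)⟩

include hd hsurj hker in
theorem lift_fin {n : ℕ} (i₀ : ι) (x : Fin n → (B₀ ⊗[A₀] A) ⊗[B₀] P) :
    ∃ j, Nonempty (Step g i₀ j) ∧ ∃ y : Fin n → (B₀ ⊗[A₀] G j) ⊗[B₀] P,
      ∀ l, tinf (g := g) B₀ P j (y l) = x l := by
  induction n with
  | zero => exact ⟨i₀, ⟨Step.refl i₀⟩, Fin.elim0, fun l => l.elim0⟩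
  | succ n ih =>
    obtain ⟨j, ⟨a⟩, y, hy⟩ := ih fun l => x l.succ
    obtain ⟨i, z, hz⟩ := tinf_surj hd hsurj hker B₀ P (x 0)
    obtain ⟨k, ⟨b⟩, ⟨c⟩⟩ := hd j i
    refine ⟨k, ⟨a.comp b⟩, Fin.cases (tmap B₀ P c z) (fun l => tmap B₀ P b (y l)), fun l => ?_⟩
    cases l using Fin.cases with
    | zero => simp only [Fin.cases_zero]; rw [tinf_tmap, hz]
    | succ l => simp only [Fin.cases_succ]; rw [tinf_tmap, hy]

include hd hsurj hker in
/-- membership in a finitely generated ideal descends -/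
theorem mem_span_stage (s : Finset P) {i : ι} (x : (B₀ ⊗[A₀] G i) ⊗[B₀] P)
    (hx : tinf (g := g) B₀ P i x ∈ (Ideal.span (s : Set P)).map
      (Algebra.TensorProduct.includeRight : P →ₐ[B₀] (B₀ ⊗[A₀] A) ⊗[B₀] P)) :
    ∃ j, ∃ a : Step g i j, tmap B₀ P a x ∈ (Ideal.span (s : Set P)).map
      (Algebra.TensorProduct.includeRight : P →ₐ[B₀] (B₀ ⊗[A₀] G j) ⊗[B₀] P) := by
  classical
  let e := s.equivFin.symm
  have hspan : ∀ (S : Type u) [CommRing S] (f : P →+* S),
      (Ideal.span (s : Set P)).map f = Ideal.span (Set.range fun k => f (e k)) := by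
    intro S _ f
    rw [Ideal.map_span]
    congr 1
    ext y
    constructor
    · rintro ⟨r, hr, rfl⟩
      exact ⟨e.symm ⟨r, hr⟩, by simp⟩
    · rintro ⟨k, rfl⟩
      exact ⟨_, (e k).2, rfl⟩
  rw [← Ideal.map_coe, hspan] at hx
  obtain ⟨c, hc⟩ := (Submodule.mem_span_range_iff_exists_fun _).1 hx
  obtain ⟨j, ⟨a⟩, c', hc'⟩ := lift_fin hd hsurj hker B₀ P i c
  let y := tmap B₀ P a x - ∑ k, c' k * Algebra.TensorProduct.includeRight (e k : P)
  have hy : tinf (g := g) B₀ P j y = 0 := by
    have hincl : ∀ (l : ι) (q : P), tinf (g := g) B₀ P l (Algebra.TensorProduct.includeRight q) =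
        Algebra.TensorProduct.includeRight q := fun l q => by
      simp [tinf, Algebra.TensorProduct.includeRight_apply]
    simp only [y, map_sub, tinf_tmap, map_sum, map_mul, hc', hincl]
    rw [← hc, sub_eq_zero]
    rfl
  obtain ⟨k, b, hb⟩ := tinf_kill hd hsurj hker B₀ P y hy
  refine ⟨k, a.comp b, ?_⟩
  rw [tmap_comp, ← Ideal.map_coe, hspan]
  have hincl : ∀ (q : P), tmap B₀ P b (Algebra.TensorProduct.includeRight q) =
      Algebra.TensorProduct.includeRight q := fun q => by
    simp [tmap, Algebra.TensorProduct.includeRight_apply]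
  have hb' : tmap B₀ P b (tmap B₀ P a x) =
      ∑ l, tmap B₀ P b (c' l) * Algebra.TensorProduct.includeRight (e l : P) := by
    simp only [y, map_sub, map_sum, map_mul, hincl, sub_eq_zero] at hb
    exact hb
  rw [hb']
  exact Ideal.sum_mem _ fun l _ => Ideal.mul_mem_left _ _ (Ideal.subset_span ⟨l, rfl⟩)

end Data

end Groth.Agent.EtSmColim
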