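import Groth.Agent.EtSmColim.Smooth

/-!
Finiteness, surjectivity, bijectivity and unramifiedness descend to a stage.
-/

set_option autoImplicit false

universe u

open TensorProduct

namespace Groth.Agent.EtSmColim

variable {A₀ : Type u} [CommRing A₀] {ι : Type u} [Nonempty ι] {G : ι → Type u} [∀ i, CommRing (G i)]
  [∀ i, Algebra A₀ (G i)] {A : Type u} [CommRing A] [Algebra A₀ A] {g : ∀ i, G i →ₐ[A₀] A}
  (hd : Directed g) (hsurj : ∀ a : A, ∃ i, ∃ x : G i, g i x = a)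
  (hker : ∀ i (x : G i), g i x = 0 → ∃ j, ∃ a : Step g i j, a.hom x = 0)
  (B₀ : Type u) [CommRing B₀] [Algebra A₀ B₀] (C₀ : Type u) [CommRing C₀] [Algebra B₀ C₀]
  [Algebra.FiniteType B₀ C₀]

include hd hsurj hker in
theorem exists_formallyUnramified_of_finiteType (i : ι)
    (h : Algebra.FormallyUnramified (B₀ ⊗[A₀] A) ((B₀ ⊗[A₀] A) ⊗[B₀] C₀)) :
    ∃ j, Algebra.FormallyUnramified (B₀ ⊗[A₀] G j) ((B₀ ⊗[A₀] G j) ⊗[B₀] C₀) := by
  classical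
  obtain ⟨s, hs⟩ := (inferInstance : Module.Finite C₀ (Ω[C₀⁄B₀])).fg_top
  rw [subsingleton_tensor_kaehler_iff B₀ _ s hs] at h
  let S := (ringSys hd hsurj hker B₀).tensor hd (Ω[C₀⁄B₀])
  obtain ⟨j, a, ha⟩ := S.kill_finset s (i := i) (fun w => w ⊗ₜ[B₀] (1 : B₀ ⊗[A₀] G i)) (fun w hw => by
    show w ⊗ₜ[B₀] (rinf (g := g) B₀ i 1) = 0
    rw [map_one]
    have := congrArg (TensorProduct.comm B₀ _ _) (h w hw)
    rwa [TensorProduct.comm_tmul, map_zero] at this)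
  refine ⟨j, (subsingleton_tensor_kaehler_iff B₀ _ s hs).2 fun w hw => ?_⟩
  have h1 : w ⊗ₜ[B₀] (rmap B₀ a 1) = 0 := ha w hw
  rw [map_one] at h1
  have := congrArg (TensorProduct.comm B₀ _ _) h1
  rwa [TensorProduct.comm_tmul, map_zero] at this

theorem tmap_algebraMap {i j : ι} (a : Step g i j) (r : B₀ ⊗[A₀] G i) :
    tmap B₀ C₀ a (algebraMap _ _ r) = algebraMap _ _ (rmap B₀ a r) := by
  simp [tmap, Algebra.TensorProduct.algebraMap_apply]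

theorem tmap_one_tmul {i j : ι} (a : Step g i j) (x : C₀) :
    tmap B₀ C₀ a ((1 : B₀ ⊗[A₀] G i) ⊗ₜ[B₀] x) = 1 ⊗ₜ x := by
  simp [tmap]

theorem tinf_algebraMap (i : ι) (r : B₀ ⊗[A₀] G i) :
    tinf (g := g) B₀ C₀ i (algebraMap _ _ r) = algebraMap _ _ (rinf (g := g) B₀ i r) := by
  simp [tinf, Algebra.TensorProduct.algebraMap_apply]

theorem tinf_one_tmul (i : ι) (x : C₀) :
    tinf (g := g) B₀ C₀ i ((1 : B₀ ⊗[A₀] G i) ⊗ₜ[B₀] x) = 1 ⊗ₜ x := by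
  simp [tinf]

include hd hsurj hker in
/-- integrality of finitely many elements descends -/
theorem exists_integral (s : Finset C₀)
    (h : ∀ x ∈ s, IsIntegral (B₀ ⊗[A₀] A) ((1 : B₀ ⊗[A₀] A) ⊗ₜ[B₀] x)) (i₀ : ι) :
    ∃ j, Nonempty (Step g i₀ j) ∧ ∀ x ∈ s, IsIntegral (B₀ ⊗[A₀] G j) ((1 : B₀ ⊗[A₀] G j) ⊗ₜ[B₀] x) := by
  classical
  induction s using Finset.induction_on with
  | empty => exact ⟨i₀, ⟨Step.refl i₀⟩, fun x hx => absurd hx (Finset.notMem_empty x)⟩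
  | insert c t _ ih =>
    obtain ⟨j, ⟨a⟩, hj⟩ := ih fun x hx => h x (Finset.mem_insert_of_mem hx)
    obtain ⟨p, hp, hpc⟩ := h c (Finset.mem_insert_self c t)
    obtain ⟨k, ⟨b⟩, y, hy⟩ := (ringSys hd hsurj hker B₀).lift_finset hd (Finset.range p.natDegree) j p.coeff
    let z : (B₀ ⊗[A₀] G k) ⊗[B₀] C₀ :=
      (1 ⊗ₜ c) ^ p.natDegree + ∑ l ∈ Finset.range p.natDegree, algebraMap _ _ (y l) * (1 ⊗ₜ c) ^ l
    obtain ⟨m, e, he⟩ := tinf_kill hd hsurj hker B₀ C₀ z (by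
      simp only [z, map_add, map_sum, map_mul, map_pow, tinf_one_tmul, tinf_algebraMap]
      rw [Finset.sum_congr rfl fun l hl => by rw [show rinf (g := g) B₀ k (y l) = p.coeff l from hy l hl]]
      have := hpc
      rw [hp.as_sum, Polynomial.eval₂_add, Polynomial.eval₂_X_pow, Polynomial.eval₂_finset_sum] at this
      simpa only [Polynomial.eval₂_mul, Polynomial.eval₂_C, Polynomial.eval₂_X_pow] using this)
    refine ⟨m, ⟨(a.comp b).comp e⟩, fun x hx => ?_⟩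
    rcases Finset.mem_insert.1 hx with rfl | hx
    · let q : Polynomial (B₀ ⊗[A₀] G m) := Polynomial.X ^ p.natDegree +
        ∑ l ∈ Finset.range p.natDegree, Polynomial.C (rmap B₀ e (y l)) * Polynomial.X ^ l
      refine ⟨q, ?_, ?_⟩
      · refine Polynomial.monic_X_pow_add ?_
        refine (Polynomial.degree_sum_le _ _).trans_lt ?_
        refine (Finset.sup_lt_iff (WithBot.bot_lt_coe _)).2 fun l hl => ?_
        exact (Polynomial.degree_C_mul_X_pow_le _ _).trans_lt (WithBot.coe_lt_coe.2 (Finset.mem_range.1 hl))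
      · simp only [q, Polynomial.eval₂_add, Polynomial.eval₂_X_pow, Polynomial.eval₂_finset_sum,
          Polynomial.eval₂_mul, Polynomial.eval₂_C]
        simpa only [z, map_add, map_sum, map_mul, map_pow, tmap_one_tmul, tmap_algebraMap] using he
    · obtain ⟨q, hq, hqx⟩ := hj x hx
      let bc := b.comp e
      refine ⟨q.map (rmap B₀ bc).toRingHom, hq.map _, ?_⟩
      have := congrArg (tmap B₀ C₀ bc) hqx
      rw [map_zero, ← AlgHom.coe_toRingHom, Polynomial.hom_eval₂, AlgHom.coe_toRingHom, tmap_one_tmul] at this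
      rw [Polynomial.eval₂_map]
      have e : (tmap B₀ C₀ bc).toRingHom.comp (algebraMap (B₀ ⊗[A₀] G j) ((B₀ ⊗[A₀] G j) ⊗[B₀] C₀)) =
          (algebraMap (B₀ ⊗[A₀] G m) ((B₀ ⊗[A₀] G m) ⊗[B₀] C₀)).comp (rmap B₀ bc).toRingHom :=
        RingHom.ext fun r => tmap_algebraMap B₀ C₀ bc r
      rw [← e]
      exact this

theorem adjoin_one_tmul_eq_top (R : Type u) [CommRing R] [Algebra B₀ R] (s : Finset C₀)
    (hs : Algebra.adjoin B₀ (s : Set C₀) = ⊤) :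
    Algebra.adjoin R ((fun x : C₀ => (1 : R) ⊗ₜ[B₀] x) '' (s : Set C₀)) = ⊤ :=
  Algebra.TensorProduct.adjoin_one_tmul_image_eq_top _ hs

include hd hsurj hker in
theorem exists_finite (h : Module.Finite (B₀ ⊗[A₀] A) ((B₀ ⊗[A₀] A) ⊗[B₀] C₀)) :
    ∃ i, Module.Finite (B₀ ⊗[A₀] G i) ((B₀ ⊗[A₀] G i) ⊗[B₀] C₀) := by
  classical
  obtain ⟨s, hs⟩ := ‹Algebra.FiniteType B₀ C₀›.out
  haveI := h
  obtain ⟨j, -, hj⟩ := exists_integral hd hsurj hker B₀ C₀ s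
    (fun x _ => Algebra.IsIntegral.isIntegral _) (Classical.arbitrary ι)
  refine ⟨j, ?_⟩
  have hfg := fg_adjoin_of_finite
    (s := (fun x : C₀ => (1 : B₀ ⊗[A₀] G j) ⊗ₜ[B₀] x) '' (s : Set C₀)) (s.finite_toSet.image _)
    (by rintro _ ⟨x, hx, rfl⟩; exact hj x hx)
  rw [adjoin_one_tmul_eq_top B₀ C₀ _ s hs, Algebra.top_toSubmodule] at hfg
  exact ⟨hfg⟩

include hd hsurj hker in
theorem exists_surjective (h : Function.Surjective (algebraMap (B₀ ⊗[A₀] A) ((B₀ ⊗[A₀] A) ⊗[B₀] C₀))) :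
    ∃ i, Function.Surjective (algebraMap (B₀ ⊗[A₀] G i) ((B₀ ⊗[A₀] G i) ⊗[B₀] C₀)) := by
  classical
  obtain ⟨s, hs⟩ := ‹Algebra.FiniteType B₀ C₀›.out
  suffices H : ∀ t : Finset C₀, ∃ j, ∀ x ∈ t,
      ((1 : B₀ ⊗[A₀] G j) ⊗ₜ[B₀] x) ∈ (Algebra.ofId (B₀ ⊗[A₀] G j) ((B₀ ⊗[A₀] G j) ⊗[B₀] C₀)).range by
    obtain ⟨j, hj⟩ := H s
    refine ⟨j, fun z => ?_⟩
    have hz : z ∈ (Algebra.ofId (B₀ ⊗[A₀] G j) ((B₀ ⊗[A₀] G j) ⊗[B₀] C₀)).range := by
      refine (?_ : (⊤ : Subalgebra (B₀ ⊗[A₀] G j) ((B₀ ⊗[A₀] G j) ⊗[B₀] C₀)) ≤ _) Algebra.mem_top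
      rw [← adjoin_one_tmul_eq_top B₀ C₀ _ s hs]
      exact Algebra.adjoin_le (by rintro _ ⟨x, hx, rfl⟩; exact hj x hx)
    exact hz
  intro t
  induction t using Finset.induction_on with
  | empty => exact ⟨Classical.arbitrary ι, fun x hx => absurd hx (Finset.notMem_empty x)⟩
  | insert c t _ ih =>
    obtain ⟨j, hj⟩ := ih
    obtain ⟨r, hr⟩ := h ((1 : B₀ ⊗[A₀] A) ⊗ₜ[B₀] c)
    obtain ⟨k, ⟨b⟩, y, hy⟩ := (ringSys hd hsurj hker B₀).lift_finset hd {0} j (fun _ : ℕ => r)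
    obtain ⟨m, e, he⟩ := tinf_kill hd hsurj hker B₀ C₀ (algebraMap _ _ (y 0) - 1 ⊗ₜ c) (by
      rw [map_sub, tinf_algebraMap, tinf_one_tmul, show rinf (g := g) B₀ k (y 0) = r from
        hy 0 (Finset.mem_singleton_self 0), hr, sub_self])
    refine ⟨m, fun x hx => ?_⟩
    rcases Finset.mem_insert.1 hx with rfl | hx
    · refine ⟨rmap B₀ e (y 0), ?_⟩
      rw [map_sub, tmap_algebraMap, tmap_one_tmul, sub_eq_zero] at he
      exact he
    · obtain ⟨w, hw⟩ := hj x hx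
      refine ⟨rmap B₀ (b.comp e) w, ?_⟩
      have := congrArg (tmap B₀ C₀ (b.comp e)) hw
      rw [tmap_one_tmul] at this
      exact (tmap_algebraMap B₀ C₀ _ w).symm.trans this

include hd hsurj hker in
theorem exists_bijective [Algebra.FinitePresentation B₀ C₀]
    (h : Function.Bijective (algebraMap (B₀ ⊗[A₀] A) ((B₀ ⊗[A₀] A) ⊗[B₀] C₀))) :
    ∃ i, Function.Bijective (algebraMap (B₀ ⊗[A₀] G i) ((B₀ ⊗[A₀] G i) ⊗[B₀] C₀)) := by
  classical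
  obtain ⟨i, hi⟩ := exists_surjective hd hsurj hker B₀ C₀ h.2
  let φ := Algebra.ofId (B₀ ⊗[A₀] G i) ((B₀ ⊗[A₀] G i) ⊗[B₀] C₀)
  obtain ⟨K, hK⟩ := Algebra.FinitePresentation.ker_fG_of_surjective φ hi
  obtain ⟨j, a, ha⟩ := (ringSys hd hsurj hker B₀).kill_finset K (i := i) (fun r => r) (fun r hr => by
    show rinf (g := g) B₀ i r = 0
    refine h.1 ?_
    rw [map_zero, ← tinf_algebraMap]
    have : r ∈ RingHom.ker φ := hK.le (Submodule.subset_span hr)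
    rw [show algebraMap (B₀ ⊗[A₀] G i) ((B₀ ⊗[A₀] G i) ⊗[B₀] C₀) r = 0 from this, map_zero])
  have hle : ∀ r, φ r = 0 → rmap B₀ a r = 0 := fun r hr => by
    have : r ∈ Ideal.span (K : Set (B₀ ⊗[A₀] G i)) := hK.ge hr
    exact (Ideal.span_le (I := RingHom.ker (rmap B₀ a))).2 (fun r hr => ha r hr) this
  let σ : (B₀ ⊗[A₀] G i) ⊗[B₀] C₀ →+* (B₀ ⊗[A₀] G j) :=
    (φ.toRingHom.liftOfSurjective hi) ⟨(rmap B₀ a).toRingHom, fun r hr => hle r hr⟩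
  have hσ : ∀ r, σ (algebraMap _ _ r) = rmap B₀ a r := fun r =>
    φ.toRingHom.liftOfRightInverse_comp_apply _ _ _ r
  let τ : C₀ →ₐ[B₀] (B₀ ⊗[A₀] G j) :=
    { toRingHom := σ.comp Algebra.TensorProduct.includeRight.toRingHom
      commutes' := fun b => by
        show σ (Algebra.TensorProduct.includeRight (R := B₀) (A := B₀ ⊗[A₀] G i) (algebraMap B₀ C₀ b)) = _
        rw [AlgHom.commutes, IsScalarTower.algebraMap_apply B₀ (B₀ ⊗[A₀] G i), hσ, AlgHom.commutes] }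
  let ρ : (B₀ ⊗[A₀] G j) ⊗[B₀] C₀ →ₐ[B₀] (B₀ ⊗[A₀] G j) :=
    Algebra.TensorProduct.lift (AlgHom.id B₀ _) τ fun _ _ => mul_comm _ _
  refine ⟨j, fun x y hxy => ?_, fun z => ?_⟩
  · have := congrArg ρ hxy
    simpa [ρ, Algebra.TensorProduct.algebraMap_apply] using this
  · obtain ⟨s, hs⟩ := ‹Algebra.FiniteType B₀ C₀›.out
    have hz : z ∈ (Algebra.ofId (B₀ ⊗[A₀] G j) ((B₀ ⊗[A₀] G j) ⊗[B₀] C₀)).range := by
      refine (?_ : (⊤ : Subalgebra (B₀ ⊗[A₀] G j) ((B₀ ⊗[A₀] G j) ⊗[B₀] C₀)) ≤ _) Algebra.mem_top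
      rw [← adjoin_one_tmul_eq_top B₀ C₀ _ s hs]
      refine Algebra.adjoin_le ?_
      rintro _ ⟨x, hx, rfl⟩
      obtain ⟨w, hw⟩ := hi ((1 : B₀ ⊗[A₀] G i) ⊗ₜ[B₀] x)
      refine ⟨rmap B₀ a w, ?_⟩
      have := congrArg (tmap B₀ C₀ a) hw
      rw [tmap_one_tmul] at this
      exact (tmap_algebraMap B₀ C₀ a w).symm.trans this
    exact hz

end Groth.Agent.EtSmColim
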